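import Cfsg.Agent.H201.RowSU
import Cfsg.Agent.H165.Tri

/-!
# Systems of groups with block decompositions: transitivity of `Cond {p, q}` (helper212, for S4335)
-/

set_option autoImplicit false
open Subgroup
open Cfsg.Agent.H630.NH

namespace Cfsg.Agent.H212.TriSU

open Cfsg.Agent.H201.BlockSys Cfsg.Agent.H201.BlockSys.Sys

universe u v

variable {r : ℕ} {S : Sys.{u, v} r}

/-- The rows with a hub `t`. -/
theorem exists_abelian_hub (hdim : ∀ s t, Good r s → Good r t → S.dim (S.M s) = S.dim (S.M t) → S.M s = S.M t)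
    (c : S.I) (π : Set ℕ) (hπ : ∀ s ∈ π, Good r s) (hd : ∀ s ∈ π, s ∣ Nat.card (S.G c)) {t : ℕ} (ht : t ∈ π)
    (hnt : ∃ s ∈ π, s ≠ t) (hc : ∀ s ∈ π, s ≠ t → Cond {t, s} (S.G c)) :
    ∃ T : Subgroup (S.G c), (∀ x ∈ T, ∀ y ∈ T, x * y = y * x) ∧ ∀ s ∈ π, ¬ s ∣ T.index := by
  have hN : ∀ s ∈ π, S.N (S.M s) c ≠ 0 := fun s hs => (dvd_iff (hπ s hs)).1 (hd s hs)
  have hpair : ∀ s ∈ π, ∀ x ∈ ({t, s} : Set ℕ), x ∈ π := by
    rintro s hs x (rfl | rfl)
    · exact ht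
    · exact hs
  have hM : ∀ s ∈ π, S.M s = S.M t := by
    intro s hs
    by_cases h : s = t
    · rw [h]
    · exact hdim s t (hπ s hs) (hπ t ht) (dim_eq c (fun x hx => hπ x (hpair s hs x hx))
        (fun x hx => hN x (hpair s hs x hx)) (hc s hs h) (by simp) (by simp))
  have hlt : ∀ s ∈ π, S.N (S.M t) c < s := by
    intro s hs
    rw [← hM s hs]
    by_cases h : s = t
    · subst h
      obtain ⟨t', ht', htt⟩ := hnt
      exact lt_of_cond c (fun x hx => hπ x (hpair t' ht' x hx)) (hc t' ht' htt) (by simp) (by simp) htt.symm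
        (hM t' ht').symm
    · exact lt_of_cond c (fun x hx => hπ x (hpair s hs x hx)) (hc s hs h) (by simp) (by simp) h (hM s hs)
  have hg := hπ t ht
  obtain ⟨c', hc', hN'⟩ := S.split1 t hg.1 hg.2.1 hg.2.2 c (hN t ht)
  obtain ⟨x, hx, hx1⟩ := exists_elem (S := S) hg
  refine gamma (centralizer ({x} : Set (S.G (S.M t)))) (centralizer_comm hg hx hx1) c π
    (fun s hs => ⟨hπ s hs, hM s hs, hlt s hs, ?_⟩) ⟨t, ht⟩
  by_cases h : s = t
  · subst h
    exact not_dvd_index hg x hx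
  · exact torus_index c c' (fun x hx => hπ x (hpair s hs x hx)) (hc s hs h) (by simp) hc' hN' hx hx1 (by simp)
      (hM s hs) (hlt s hs)

section

variable (F : Fam S) (one : S.I) (hinj : Function.Injective (F.det one)) (U : Subgroup F.D) [Finite U]
    (hU : ∀ (c : S.I) (x : S.G c), F.det c x ∈ U) (hsurj : ∀ u ∈ U, ∃ x : S.G one, F.det one x = u)
    (hN1 : ∀ c, S.N one c = S.dim c) (hone : S.dim one = 1)
    (hdim : ∀ s t, Good r s → Good r t → S.dim (S.M s) = S.dim (S.M t) → S.M s = S.M t)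

include hinj hU hsurj hN1 hone hdim

theorem M_eq_one (c : S.I) {π : Set ℕ} (hg : ∀ s ∈ π, Good r s) (hc : Cond π (F.det c).ker)
    {s0 : ℕ} (hs0 : s0 ∈ π) [hp0 : Fact s0.Prime] (hMs0 : S.M s0 = one) {t : ℕ} (ht : t ∈ π) [hpt : Fact t.Prime]
    (htk : t ∣ Nat.card (F.det c).ker) : S.M t = one := by
  have hcomm1 : ∀ x y : S.G one, x * y = y * x := fun x y => hinj (by rw [map_mul, map_mul, mul_comm])
  have hd : t ∣ Nat.card (S.G c) := htk.trans (card_subgroup_dvd_card _)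
  by_contra hne
  have hdne : S.dim (S.M t) ≠ S.dim one := by
    intro h
    exact hne ((hdim t s0 (hg t ht) (hg s0 hs0) (by rw [h, hMs0])).trans hMs0)
  have hpos := dim_pos (S := S) (hg t ht)
  have hlt : S.dim one < S.dim (S.M t) := by omega
  have hne0 : s0 ≠ t := fun h => hne (h ▸ hMs0)
  have hdimc : S.dim (S.M t) ≤ S.dim c := by
    by_contra hlt2
    obtain ⟨y, hy⟩ := exists_prime_orderOf_dvd_card' t hd
    have h1 : y ^ t = 1 := by
      have := pow_orderOf_eq_one y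
      rwa [hy] at this
    have h2 := eq_one_of_dim_lt (hg t ht) (not_le.1 hlt2) y h1
    rw [h2, orderOf_one] at hy
    exact (hg t ht).1.one_lt.ne hy
  obtain ⟨g1, g2, g3⟩ := hg s0 hs0
  obtain ⟨c', hc', hN'⟩ := S.split1 s0 g1 g2 g3 c (by rw [hMs0, hN1]; omega)
  obtain ⟨c'', hc'', hN''⟩ := S.split1 s0 g1 g2 g3 c' (by rw [hMs0] at hN' ⊢; rw [hN1 c] at hN'; omega)
  obtain ⟨x, hx, hx1⟩ := exists_elem (S := S) (hg s0 hs0)
  -- the inverse
  have hs02 : 2 < s0 := lt_of_le_of_ne g1.two_le (Ne.symm g2)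
  set k : (ZMod s0)ˣ := -1 with hk
  have hkH : k ∉ S.H s0 := by
    intro h
    have h1 : Nat.card (S.H s0) = 1 := by rw [S.H_card s0 g1 g2 g3, hMs0, hone]
    rw [(Subgroup.card_eq_one).1 h1, mem_bot] at h
    have h2 : ((-1 : (ZMod s0)ˣ) : ZMod s0) = ((1 : (ZMod s0)ˣ) : ZMod s0) := by rw [← hk, h]
    rw [Units.val_neg, Units.val_one] at h2
    have h3 : Fact (2 < s0) := ⟨hs02⟩
    exact ZMod.neg_one_ne_one h2
  have hdisj := disjoint_pow (hg s0 hs0) hx hx1 k hkH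
  set x2 := x ^ (k : ZMod s0).val with hx2
  have hx2x : x * x2 = 1 := by
    rw [hx2, ← pow_succ']
    have h1 : ((((k : ZMod s0).val + 1 : ℕ)) : ZMod s0) = 0 := by
      rw [Nat.cast_add, ZMod.natCast_zmod_val, hk, Units.val_neg, Units.val_one, Nat.cast_one, neg_add_cancel]
    obtain ⟨m, hm⟩ := (ZMod.natCast_eq_zero_iff _ _).1 h1
    rw [hm, pow_mul, hx, one_pow]
  have hx2s : x2 ^ s0 = 1 := by rw [hx2, ← pow_mul, mul_comm, pow_mul, hx, one_pow]
  -- a Sylow subgroup containing `β (x2, 1)`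
  have hzp : IsPGroup s0 (zpowers (S.β hc'' (x2, 1))) := by
    rintro ⟨y, hy⟩
    obtain ⟨i, rfl⟩ := mem_zpowers_iff.1 hy
    refine ⟨1, Subtype.ext ?_⟩
    show ((S.β hc'' (x2, 1)) ^ i) ^ s0 ^ 1 = 1
    rw [pow_one, ← zpow_natCast, ← zpow_mul, mul_comm, zpow_mul, zpow_natCast, ← map_pow, Prod.pow_mk, hx2s,
      one_pow, show ((1 : S.G (S.M s0)), (1 : S.G c'')) = 1 from rfl, map_one, one_zpow]
  obtain ⟨P', hP'⟩ := hzp.exists_le_sylow
  set A : Subgroup (F.det c).ker :=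
    (((⊤ : Subgroup (S.G (S.M s0))).prod (P' : Subgroup (S.G c'))).map (S.β hc')).subgroupOf (F.det c).ker with hA
  have hinj' : Function.Injective (F.det (S.M s0)) := by rw [hMs0]; exact hinj
  have hsurj' : ∀ u ∈ U, ∃ x : S.G (S.M s0), F.det (S.M s0) x = u := by rw [hMs0]; exact hsurj
  have hAp : IsPGroup s0 A := by
    rintro ⟨⟨g, hgk⟩, ⟨⟨a, b⟩, hab, rfl : S.β hc' (a, b) = g⟩⟩
    obtain ⟨j, hj⟩ := P'.isPGroup' ⟨b, (mem_prod.1 hab).2⟩
    have hj' : b ^ s0 ^ j = 1 := congrArg Subtype.val hj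
    have hdet : F.det _ a * F.det _ b = 1 := by
      rw [← F.det_β hc']
      exact hgk
    have ha : a ^ s0 ^ j = 1 := by
      apply hinj'
      rw [map_pow, map_one]
      have h1 : (F.det _ a * F.det _ b) ^ s0 ^ j = 1 := by rw [hdet, one_pow]
      rwa [mul_pow, ← map_pow (F.det c') b, hj', map_one, mul_one] at h1
    refine ⟨j, Subtype.ext (Subtype.ext ?_)⟩
    show (S.β hc' (a, b)) ^ s0 ^ j = 1
    rw [← map_pow, Prod.pow_mk, ha, hj']
    exact map_one _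
  refine not_cond_of_centralizer hs0 ht hne0 htk A hAp ?_ hc
  intro y hy hyA
  have hy1 : (y : S.G c) ^ t = 1 := by
    have := pow_orderOf_eq_one y
    rw [hy] at this
    exact congrArg Subtype.val this
  have hcom : ∀ a : S.G (S.M s0), ∀ b ∈ P', F.det _ a * F.det _ b = 1 →
      S.β hc' (a, b) * (y : S.G c) = (y : S.G c) * S.β hc' (a, b) := by
    intro a b hb hab
    have h1 : S.β hc' (a, b) ∈ (F.det c).ker := by
      rw [MonoidHom.mem_ker, F.det_β]
      exact hab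
    exact congrArg Subtype.val (hyA ⟨S.β hc' (a, b), h1⟩ ⟨(a, b), mem_prod.2 ⟨mem_top _, hb⟩, rfl⟩)
  have h2 : F.det _ x * F.det _ (S.β hc'' (x2, 1)) = 1 := by
    rw [F.det_β, map_one, mul_one, ← map_mul, hx2x, map_one]
  have h3 := hcom x _ (hP' (mem_zpowers _)) h2
  have hdj : Disjoint (S.E x) (S.E (S.β hc'' (x2, 1))) := by
    rw [S.E_β, Set.disjoint_union_right]
    exact ⟨hdisj, disjoint_one (hg s0 hs0) hx hx1 c''⟩
  obtain ⟨u, w, huw⟩ := S.cp hc' x _ (y : S.G c) hdj h3.symm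
  have h4 : u ^ t = 1 ∧ w ^ t = 1 := by
    rw [huw, ← map_pow, ← map_one (S.β hc')] at hy1
    have := S.β_inj hc' hy1
    exact ⟨congrArg Prod.fst this, congrArg Prod.snd this⟩
  have hu : u = 1 := eq_one_of_dim_lt (hg t ht) (by rw [hMs0]; exact hlt) u h4.1
  have hw : w = 1 := by
    refine Sys.alpha (hg s0 hs0) (hg t ht) (by rw [hMs0]; exact hlt) c' P' w h4.2 (fun b hb => ?_)
    obtain ⟨a, ha⟩ := hsurj' (F.det _ b)⁻¹ (inv_mem (hU _ b))
    have h5 := hcom a b hb (by rw [ha, inv_mul_cancel])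
    rw [huw, ← map_mul, ← map_mul] at h5
    exact congrArg Prod.snd (S.β_inj hc' h5)
  have h6 : y = 1 := by
    apply Subtype.ext
    rw [huw, hu, hw]
    exact map_one _
  rw [h6, orderOf_one] at hy
  exact (hg t ht).1.one_lt.ne hy

theorem N_lt (c : S.I) {π : Set ℕ} (hg : ∀ s ∈ π, Good r s) (hc : Cond π (F.det c).ker)
    (hM : ∀ t ∈ π, S.M t = one) {s : ℕ} (hs : s ∈ π) {t : ℕ} (ht : t ∈ π) (hst : s < t) : S.N one c < s := by
  have hcomm1 : ∀ x y : S.G one, x * y = y * x := fun x y => hinj (by rw [map_mul, map_mul, mul_comm])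
  have hps : Fact s.Prime := ⟨(hg s hs).1⟩
  have hpt : Fact t.Prime := ⟨(hg t ht).1⟩
  by_contra hle
  set c1 : ℕ := max (S.N one c % s) 1 with hc1
  have h1c : 1 ≤ c1 := le_max_right _ _
  have hcs : c1 < s := max_lt (Nat.mod_lt _ (hg s hs).1.pos) (hg s hs).1.one_lt
  have hne : -(c1 : ZMod t) ≠ 0 := by
    rw [neg_ne_zero, Ne, ZMod.natCast_eq_zero_iff]
    intro h
    have := Nat.le_of_dvd (by omega) h
    omega
  set k : (ZMod t)ˣ := Units.mk0 _ hne with hk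
  have hkH : k ∉ S.H t := by
    intro h
    obtain ⟨g1, g2, g3⟩ := hg t ht
    have h1 : Nat.card (S.H t) = 1 := by rw [S.H_card t g1 g2 g3, hM t ht, hone]
    rw [(Subgroup.card_eq_one).1 h1, mem_bot] at h
    have h2 : -(c1 : ZMod t) = 1 := by
      have := congrArg (fun z : (ZMod t)ˣ => (z : ZMod t)) h
      exact this
    have h3 : (((c1 + 1 : ℕ)) : ZMod t) = 0 := by
      rw [Nat.cast_add, Nat.cast_one, ← h2, add_neg_cancel]
    rw [ZMod.natCast_eq_zero_iff] at h3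
    have := Nat.le_of_dvd (by omega) h3
    omega
  obtain ⟨x, hx, hx1⟩ := exists_elem (S := S) (hg t ht)
  obtain ⟨y, hy, hdv, hdet, hsur⟩ := Sys.beta F (hg s hs) (hg t ht) ((hM s hs).trans (hM t ht).symm) c
    (by rw [hM t ht]; exact not_lt.1 hle) k hkH c1 (by rw [hM t ht]; exact le_max_left _ _) hcs x hx hx1
  have hker : y ∈ (F.det c).ker := by
    rw [MonoidHom.mem_ker, hdet, ← pow_add]
    have h3 : (((c1 + (k : ZMod t).val : ℕ)) : ZMod t) = 0 := by
      rw [Nat.cast_add, ZMod.natCast_zmod_val, hk, Units.val_mk0, add_neg_cancel]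
    obtain ⟨m, hm⟩ := (ZMod.natCast_eq_zero_iff _ _).1 h3
    rw [hm, pow_mul, ← map_pow, hx, map_one, one_pow]
  have hsup : centralizer ({y} : Set (S.G c)) ⊔ (F.det c).ker = ⊤ := by
    rw [eq_top_iff]
    intro g _
    have hsurj' : ∀ u ∈ U, ∃ x : S.G (S.M t), F.det (S.M t) x = u := by rw [hM t ht]; exact hsurj
    have hcomm' : ∀ x y : S.G (S.M t), x * y = y * x := by rw [hM t ht]; exact hcomm1
    obtain ⟨z, hz⟩ := hsurj' (F.det c g) (hU c g)
    obtain ⟨w, hw, hwz⟩ := hsur z (hcomm' z x)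
    have h5 : g = w * (w⁻¹ * g) := by group
    rw [h5]
    refine mul_mem ((le_sup_left : _ ≤ centralizer ({y} : Set (S.G c)) ⊔ (F.det c).ker) hw)
      ((le_sup_right : _ ≤ centralizer ({y} : Set (S.G c)) ⊔ (F.det c).ker) ?_)
    rw [MonoidHom.mem_ker, map_mul, map_inv, hwz, hz, inv_mul_cancel]
  have hy' : (⟨y, hker⟩ : (F.det c).ker) ^ t = 1 := Subtype.ext hy
  refine hc t ht s hs hst.ne' ⟨y, hker⟩ (exists_order (hg t ht).1 hy') ?_
  rw [index_centralizer_normal (F.det c).ker ⟨y, hker⟩ hsup]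
  exact hdv

theorem crossTri_ker (hM1 : ∀ s, Good r s → s ∣ Nat.card U → S.M s = one) (c : S.I) :
    H165.TriRow.CrossTri r (F.det c).ker := by
  refine H165.TriRow.CrossTri.of_torus ?_
  intro h q₁ q₂ hh h₁ h₂ e1 e2 e3 e4 e5 e6 e7 e8 e9 d1 d2 d3 hc₁ hc₂
  have hcomm1 : ∀ x y : S.G one, x * y = y * x := fun x y => hinj (by rw [map_mul, map_mul, mul_comm])
  have hg : ∀ s ∈ ({h, q₁, q₂} : Set ℕ), Good r s := by
    rintro s (rfl | rfl | rfl)
    · exact ⟨hh, e1, e4⟩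
    · exact ⟨h₁, e2, e5⟩
    · exact ⟨h₂, e3, e6⟩
  have hd : ∀ s ∈ ({h, q₁, q₂} : Set ℕ), s ∣ Nat.card (F.det c).ker := by
    rintro s (rfl | rfl | rfl)
    · exact d1
    · exact d2
    · exact d3
  have hc : ∀ s ∈ ({h, q₁, q₂} : Set ℕ), s ≠ h → Cond {h, s} (F.det c).ker := by
    rintro s (rfl | rfl | rfl) hs
    · exact absurd rfl hs
    · exact hc₁
    · exact hc₂
  have hh' : h ∈ ({h, q₁, q₂} : Set ℕ) := by simp
  have hq₁ : q₁ ∈ ({h, q₁, q₂} : Set ℕ) := by simp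
  have hq₂ : q₂ ∈ ({h, q₁, q₂} : Set ℕ) := by simp
  generalize hπdef : ({h, q₁, q₂} : Set ℕ) = π at hg hd hc hh' hq₁ hq₂
  suffices hmain : ∃ T : Subgroup (F.det c).ker, IsMulCommutative T ∧ ∀ s ∈ π, ¬ s ∣ T.index by
    obtain ⟨T, hT, hi⟩ := hmain
    exact ⟨T, hT, hi q₁ hq₁, hi q₂ hq₂⟩
  have hpair : ∀ s ∈ π, ∀ x ∈ ({h, s} : Set ℕ), x ∈ π := by
    rintro s hs x (rfl | rfl)
    · exact hh'
    · exact hs
  by_cases hall : ∀ s ∈ π, ¬ s ∣ Nat.card U
  · have h1 : (F.det c).ker.index ∣ Nat.card U := by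
      rw [index_ker]
      refine card_dvd_of_le ?_
      rintro _ ⟨x, rfl⟩
      exact hU c x
    obtain ⟨T, hT, hi⟩ := exists_abelian_hub hdim c π hg (fun s hs => (hd s hs).trans (card_subgroup_dvd_card _)) hh'
      ⟨q₁, hq₁, e7.symm⟩ (fun s hs hsh => cond_of_normal (F.det c).ker
        (fun p hp => ⟨(hg p (hpair s hs p hp)).1, fun hp' => hall p (hpair s hs p hp) (hp'.trans h1)⟩) (hc s hs hsh))
    exact inter_normal _ T hT hi
  · push Not at hall
    obtain ⟨s0, hs0, hs0d⟩ := hall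
    have hMs0 : S.M s0 = one := hM1 s0 (hg s0 hs0) hs0d
    have hp0 : Fact s0.Prime := ⟨(hg s0 hs0).1⟩
    have hph : Fact h.Prime := ⟨hh⟩
    have hMh : S.M h = one := by
      by_cases hsh : s0 = h
      · rw [← hsh]; exact hMs0
      · exact M_eq_one F one hinj U hU hsurj hN1 hone hdim c (fun s hs => hg s (hpair s0 hs0 s hs)) (hc s0 hs0 hsh)
          (s0 := s0) (by simp) hMs0 (t := h) (by simp) (hd h hh')
    have hM : ∀ s ∈ π, S.M s = one := by
      intro s hs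
      have hps : Fact s.Prime := ⟨(hg s hs).1⟩
      by_cases hsh : s = h
      · rw [hsh]; exact hMh
      · exact M_eq_one F one hinj U hU hsurj hN1 hone hdim c (fun x hx => hg x (hpair s hs x hx)) (hc s hs hsh)
          (s0 := h) (by simp) hMh (t := s) (by simp) (hd s hs)
    have hlt2 : ∀ s ∈ π, s ≠ h → S.N one c < s ∧ S.N one c < h := by
      intro s hs hsh
      have hgp : ∀ x ∈ ({h, s} : Set ℕ), Good r x := fun x hx => hg x (hpair s hs x hx)
      have hMp : ∀ x ∈ ({h, s} : Set ℕ), S.M x = one := fun x hx => hM x (hpair s hs x hx)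
      rcases lt_or_gt_of_ne hsh with hlt | hlt
      · have := N_lt F one hinj U hU hsurj hN1 hone hdim c hgp (hc s hs hsh) hMp (s := s) (by simp) (t := h) (by simp) hlt
        omega
      · have := N_lt F one hinj U hU hsurj hN1 hone hdim c hgp (hc s hs hsh) hMp (s := h) (by simp) (t := s) (by simp) hlt
        omega
    have hlt : ∀ s ∈ π, S.N one c < s := by
      intro s hs
      by_cases hsh : s = h
      · rw [hsh]; exact (hlt2 q₁ hq₁ e7.symm).2
      · exact (hlt2 s hs hsh).1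
    obtain ⟨T, hT, hi⟩ := gamma (S := S) (⊤ : Subgroup (S.G one)) (fun x _ y _ => hcomm1 x y) c π
      (fun s hs => ⟨hg s hs, hM s hs, hlt s hs, by rw [index_top]; exact (hg s hs).1.not_dvd_one⟩)
      ⟨s0, hs0⟩
    exact inter_normal _ T hT hi

end

/-- The full group of a system in which the minimal block is determined by its dimension. -/
theorem crossTri (hdim : ∀ s t, Good r s → Good r t → S.dim (S.M s) = S.dim (S.M t) → S.M s = S.M t) (c : S.I) :
    H165.TriRow.CrossTri r (S.G c) := by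
  refine H165.TriRow.CrossTri.of_torus ?_
  intro h q₁ q₂ hh h₁ h₂ e1 e2 e3 e4 e5 e6 e7 e8 e9 d1 d2 d3 hc₁ hc₂
  obtain ⟨T, hT, hi⟩ := exists_abelian_hub hdim c {h, q₁, q₂} (by
    rintro s (rfl | rfl | rfl)
    · exact ⟨hh, e1, e4⟩
    · exact ⟨h₁, e2, e5⟩
    · exact ⟨h₂, e3, e6⟩) (by
    rintro s (rfl | rfl | rfl)
    · exact d1
    · exact d2
    · exact d3) (t := h) (by simp) ⟨q₁, by simp, e7.symm⟩ (by
    rintro s (rfl | rfl | rfl) hs
    · exact absurd rfl hs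
    · exact hc₁
    · exact hc₂)
  exact ⟨T, isMulCommutative_of hT, hi q₁ (by simp), hi q₂ (by simp)⟩

end Cfsg.Agent.H212.TriSU
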