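import Cfsg.Agent.H212.TriSU.BlockTri

/-!
# `CrossTri r` for `SU_n(q)` and `PSU_n(q)` (helper212, for S4335)
-/

set_option autoImplicit false

namespace Cfsg.Agent.H212.TriSU

open Matrix Cfsg.Agent.H201.MatSys Cfsg.Agent.H201.MatSpec Cfsg.Agent.H630.NH Cfsg.Agent.LieClassical
open Cfsg.Agent.H201 Cfsg.Agent.H201.BlockSys

section

variable {F : Type} [Field F]
variable (ι : ℕ → Type) [∀ n, Fintype (ι n)] [∀ n, DecidableEq (ι n)] (G : ∀ n, Subgroup (GL (ι n) F))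

/-- **The rows of the kernel of the determinant.** -/
theorem natSys_crossTri_ker [Finite F] (r : ℕ) [Fact r.Prime] [CharP F r]
    (hι : ∀ n, Fintype.card (ι n) = 1 * n) (C : ℤ) (hC : ∀ i : ℕ, i ≠ 0 → C ^ i ≠ 1)
    (hCs : ∀ s : ℕ, s.Prime → s ≠ r → ¬ (s : ℤ) ∣ C) (hDec : ∀ a b : ℕ, (natFm ι G).Dec a b (a + b)) (Λ : Set ℤ)
    (hΛ : ∀ (n : ℕ) (x : G n), ∀ z ∈ sp (algebraMap F (AlgebraicClosure F)) ((x : GL (ι n) F) : Matrix (ι n) (ι n) F),
      ∀ c ∈ Λ, z ^ c ∈ sp (algebraMap F (AlgebraicClosure F)) ((x : GL (ι n) F) : Matrix (ι n) (ι n) F))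
    (hcard : ∀ s : ℕ, s.Prime → s ≠ 2 → s ≠ r → Nat.card (Hs Λ s) = 1 * orderOf (C : ZMod s))
    (ord : ∀ n : ℕ, ∃ k : ℕ, Nat.card (G n) = r ^ k * (∏ i ∈ Finset.range n, (C ^ (i + 1) - 1)).natAbs)
    (U : Subgroup Fˣ) (hU : ∀ n (x : G n), Matrix.GeneralLinearGroup.det (x : GL (ι n) F) ∈ U)
    (hsurj : ∀ u ∈ U, ∃ x : G 1, Matrix.GeneralLinearGroup.det (x : GL (ι 1) F) = u)
    (hcU : ∀ s : ℕ, s ∣ Nat.card U → (s : ℤ) ∣ C - 1) (n : ℕ) :
    H165.TriRow.CrossTri r (detHom ι G n).ker := by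
  have hfin : Finite U := inferInstance
  refine @Cfsg.Agent.H212.TriSU.crossTri_ker _ (natSys ι G r 1 hι C hC hCs hDec Λ hΛ hcard ord)
    (detFam ι G r 1 hι C hC hCs hDec Λ hΛ hcard ord) (1 : ℕ) ?_ U hfin hU hsurj ?_ ?_ ?_ ?_ n
  · intro x y hxy
    have hinj : ∀ x y : G 1, Matrix.GeneralLinearGroup.det (x : GL (ι 1) F) =
        Matrix.GeneralLinearGroup.det (y : GL (ι 1) F) → x = y := by
      intro x y hxy
      have h2 : ((x : GL (ι 1) F) : Matrix (ι 1) (ι 1) F).det = ((y : GL (ι 1) F) : Matrix (ι 1) (ι 1) F).det :=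
        congrArg (fun u : Fˣ => (u : F)) hxy
      have hc1 : Fintype.card (ι 1) = 1 := by rw [hι]
      obtain ⟨i, hi⟩ := Fintype.card_eq_one_iff.1 hc1
      have hun : Unique (ι 1) := ⟨⟨i⟩, hi⟩
      rw [Matrix.det_unique, Matrix.det_unique] at h2
      apply Subtype.ext
      apply Units.ext
      ext a b
      have hdef : (default : ι 1) = i := hi _
      rw [hi a, hi b, ← hdef]
      exact h2
    exact hinj x y hxy
  · have h5 : ∀ c : ℕ, c / 1 = Fintype.card (ι c) := fun c => by rw [hι, Nat.div_one, one_mul]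
    exact h5
  · show Fintype.card (ι 1) = 1
    rw [hι]
  · intro s t _ _ h
    have h1 : Fintype.card (ι (orderOf (C : ZMod s))) = Fintype.card (ι (orderOf (C : ZMod t))) := h
    rw [hι, hι] at h1
    exact Nat.eq_of_mul_eq_mul_left one_pos h1
  · intro s hs hd
    have hp : Fact s.Prime := ⟨hs.1⟩
    have h3 := hcU s hd
    have h4 : (C : ZMod s) = 1 := by
      have := (ZMod.intCast_zmod_eq_zero_iff_dvd _ _).2 h3
      rw [Int.cast_sub, Int.cast_one, sub_eq_zero] at this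
      exact this
    show orderOf (C : ZMod s) = 1
    rw [h4, orderOf_one]

end

section

variable {F : Type} [Field F] [Fintype F] {q : ℕ}

theorem crossTri_detGU (hF : Fintype.card F = q ^ 2) (r : ℕ) [Fact r.Prime] [CharP F r] (n : ℕ) :
    H165.TriRow.CrossTri r (GUOrder.detGU n F q).ker := by
  have hq := GUOrder.two_le hF
  obtain ⟨k, hk⟩ := RowSU.exists_pow hF r
  have hr : r.Prime := Fact.out
  have hs : ∀ s : ℕ, s.Prime → s ≠ r → ¬ (s : ℤ) ∣ -(q : ℤ) := by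
    intro s hs hsr hd
    rw [Int.dvd_neg, Int.natCast_dvd_natCast, hk] at hd
    exact hsr ((Nat.prime_dvd_prime_iff_eq hs hr).1 (hs.dvd_of_dvd_pow hd))
  refine natSys_crossTri_ker (F := F) (fun n => Fin n) (fun n => Cfsg.GU n F q) r (fun n => by simp)
    (-(q : ℤ)) ?_ hs (RowSU.dec hF) {-(q : ℤ)} (RowSU.closure_exp hF r) ?_ ?_ (powMonoidHom (q + 1) : Fˣ →* Fˣ).ker ?_ ?_ ?_ n
  · intro i hi h
    have h1 := congrArg Int.natAbs h
    rw [Int.natAbs_pow, Int.natAbs_neg, Int.natAbs_natCast, Int.natAbs_one] at h1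
    have h2 := Nat.one_lt_pow hi (show 1 < q by omega)
    omega
  · intro s hs1 _ hsr
    have : Fact s.Prime := ⟨hs1⟩
    rw [card_Hs_singleton (hs s hs1 hsr), one_mul]
  · intro n
    refine ⟨k * (n * (n - 1) / 2), ?_⟩
    rw [S0277.result hF n, RowSU.natAbs_prod q hq n, hk, ← pow_mul]
  · intro n x
    rcases Nat.eq_zero_or_pos n with rfl | hn
    · have h0 : Matrix.GeneralLinearGroup.det (x : GL (Fin 0) F) = 1 := by
        apply Units.ext
        exact Matrix.det_isEmpty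
      rw [h0]
      exact one_mem _
    · rw [← GUOrder.range_detGU hF hn]
      exact ⟨x, rfl⟩
  · intro u hu
    rw [← GUOrder.range_detGU hF le_rfl] at hu
    exact hu
  · intro s hd
    rw [GUOrder.card_ker_pow hF] at hd
    have h1 : (s : ℤ) ∣ ((q + 1 : ℕ) : ℤ) := Int.natCast_dvd_natCast.2 hd
    have h2 : -(q : ℤ) - 1 = -((q + 1 : ℕ) : ℤ) := by push_cast; ring
    rw [h2, Int.dvd_neg]
    exact h1

/-- **`CrossTri` for `SU_n(q)`** -/
theorem crossTri_SU (r : ℕ) [Fact r.Prime] (F : Type) [Field F] [Fintype F] [CharP F r] (n q : ℕ)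
    (hF : Fintype.card F = q ^ 2) : H165.TriRow.CrossTri r ↥(SU n F q) := by
  refine (crossTri_detGU hF r n).congr { GUOrder.kerEquiv (F := F) (q := q) n with
    map_mul' := fun x y => Subtype.ext (Subtype.ext rfl) }

/-- **`CrossTri` for `PSU_n(q)`** -/
theorem crossTri_PSU (r : ℕ) [Fact r.Prime] (F : Type) [Field F] [Fintype F] [CharP F r] (n q : ℕ)
    (hF : Fintype.card F = q ^ 2) : H165.TriRow.CrossTri r (Cfsg.PSU n F q) :=
  (crossTri_SU r F n q hF).quot (QuotientGroup.mk' _) (QuotientGroup.mk'_surjective _)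
    (by rw [QuotientGroup.ker_mk'])

end

end Cfsg.Agent.H212.TriSU
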